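import Groth.Agent.Lib.AlgEquiv26.Group
import Groth.Agent.Lib.SmCurveFam.AbelMap
import Groth.Agent.Lib.SchImage.Reduced
import Groth.Agent.Lib.CurveRR.Tensor
import Groth.Agent.Lib.CurveMult.VeryAmpleDiv
import Groth.Agent.Lib.CurveMult.OmegaField

/-!
# Degree zero classes on a smooth proper curve are algebraically equivalent to zero
-/

set_option autoImplicit false
set_option linter.all false
set_option maxHeartbeats 1600000
set_option backward.isDefEq.respectTransparency false

universe u

open CategoryTheory CategoryTheory.Limits AlgebraicGeometry TopologicalSpace IsLocalRing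
open _root_.FunFld (Place Divisor)

noncomputable section

namespace GrothLib.AlgEquiv26

open GrothLib.Cube (Pic clsMod HasCls hasCls_clsMod hasCls_structureModule pull)
open GrothLib.CurveRR (oD place RegCurve CP)

variable (k : Type u) [Field k] {X : Scheme.{u}} [X.Over (Spec (CommRingCat.of k))]
  [IsProper (X ↘ Spec (CommRingCat.of k))] [Smooth (X ↘ Spec (CommRingCat.of k))]
  [GeometricallyConnected (X ↘ Spec (CommRingCat.of k))]

/-- Two rational points of a smooth proper curve give algebraically equivalent ideals. -/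
theorem algCls_point_div [ConnectedSpace X] (hdim : topologicalKrullDim X = 1)
    (x y : Spec (CommRingCat.of k) ⟶ X) (hx : x ≫ X ↘ Spec (CommRingCat.of k) = 𝟙 _)
    (hy : y ≫ X ↘ Spec (CommRingCat.of k) = 𝟙 _) {u v : Pic X}
    (hu : HasCls (ClSub.idealMod x.ker) u) (hv : HasCls (ClSub.idealMod y.ker) v) : AlgCls k (u * v⁻¹) := by
  let f := X ↘ Spec (CommRingCat.of k)
  haveI : IsProper f := ‹_›
  haveI : Smooth f := ‹_›
  haveI : GeometricallyConnected f := ‹_›
  have hdf : ∀ s : ↥(Spec (CommRingCat.of k)), topologicalKrullDim ↥(f.fiber s) = 1 := fun s => by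
    have hr : Set.range (f.fiberι s) = (Set.univ : Set X) := by
      rw [Scheme.Hom.range_fiberι]
      exact Set.eq_univ_of_forall fun a => Subsingleton.elim _ _
    rw [IsHomeomorph.topologicalKrullDim_eq _ (((f.fiberι s).isEmbedding.toHomeomorph).trans
      ((Homeomorph.setCongr hr).trans (Homeomorph.Set.univ X))).isHomeomorph]
    exact hdim
  have hd₂ : ∀ c : X, topologicalKrullDim ↥((pullback.snd f f).fiber c) = 1 := fun c => by
    rw [FibreBC.topologicalKrullDim_fiber (IsPullback.of_hasPullback f f) c]
    exact hdf _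
  haveI : IsClosedImmersion (pullback.diagonal f) := inferInstance
  have hI : PicF.IsInvertible (ClSub.idealMod (pullback.diagonal f).ker) :=
    IdealModSec.isInvertible_of_isEffCartier
      (SmCurveFam.isEffCartier_section (pullback.snd f f) hd₂ (pullback.diagonal f) (pullback.diagonal_snd f))
  have key : ∀ (z : Spec (CommRingCat.of k) ⟶ X) (hz : z ≫ f = 𝟙 _) {w : Pic X},
      HasCls (ClSub.idealMod z.ker) w →
      pull (Pic13.sliceAt k X f z hz) (clsMod hI) = w := by
    intro z hz w hw
    haveI : IsClosedImmersion z := by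
      haveI : IsClosedImmersion (z ≫ f) := by rw [hz]; infer_instance
      exact IsClosedImmersion.of_comp z f
    have hsl₁ : Pic13.sliceAt k X f z hz ≫ pullback.fst f f = 𝟙 X := pullback.lift_fst _ _ _
    have hsl₂ : Pic13.sliceAt k X f z hz ≫ pullback.snd f f = f ≫ z := pullback.lift_snd _ _ _
    have hxm : z ≫ Pic13.sliceAt k X f z hz = z ≫ pullback.diagonal f := by
      refine pullback.hom_ext ?_ ?_
      · rw [Category.assoc, hsl₁, Category.assoc, pullback.diagonal_fst]
      · rw [Category.assoc, hsl₂, Category.assoc, pullback.diagonal_snd, Category.comp_id, ← Category.assoc, hz,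
          Category.id_comp]
    have hsq : IsPullback (Pic13.sliceAt k X f z hz) f (pullback.snd f f) z := by
      refine IsPullback.of_right ?_ hsl₂ (IsPullback.of_hasPullback f f)
      rw [hz, hsl₁]
      exact IsPullback.of_horiz_isIso ⟨by simp⟩
    have hQ : IsPullback z z (pullback.diagonal f) (Pic13.sliceAt k X f z hz) := by
      refine IsPullback.of_bot ?_ hxm.symm hsq
      rw [hz, pullback.diagonal_snd]
      exact IsPullback.of_vert_isIso ⟨by simp⟩
    have hker : z.ker = (pullback.diagonal f).ker.comap (Pic13.sliceAt k X f z hz) := by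
      generalize Pic13.sliceAt k X f z hz = σ at hQ ⊢
      rw [← hQ.flip.isoPullback_hom_fst, Scheme.Hom.ker_comp_of_isIso,
        Scheme.IdealSheafData.ker_fst_of_isClosedImmersion]
    obtain ⟨e⟩ := HodgeIndex.nonempty_pullback_idealMod (pullback.diagonal f) z z _ hxm hker hI hw.1
    exact ((hasCls_clsMod hI).pullback _).eq hw ⟨e⟩
  haveI : LocallyOfFiniteType f := inferInstance
  refine ⟨X, f, inferInstance, inferInstance, inferInstance,
    clsMod hI * pull (pullback.fst f f) v⁻¹, x, y, hx, hy, ?_, ?_⟩
  · rw [map_mul, key x hx hu, pull_slice_fst]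
  · rw [map_mul, key y hy hv, pull_slice_fst, mul_inv_cancel]

/-- **On a smooth proper connected curve over an algebraically closed field degree zero means algebraically
equivalent to zero.** -/
theorem algCls_of_deg_eq_zero [IsAlgClosed k] [IsIntegral X] [RegCurve X] {L : X.Modules}
    (hL : PicF.IsInvertible L) (hd : Curv2.deg k X L 1 = 0) : AlgCls k (clsMod hL) := by
  have hdim : topologicalKrullDim X = 1 := RegCurve.dim
  haveI := Euler.isNoetherian_of_proper (X := X) k
  obtain ⟨D, ⟨e⟩⟩ := CurveRR.exists_iso_oD k hL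
  have hD : D.deg = 0 := by rw [← hd, Euler.deg_of_iso k e 1, CurveRR.deg_oD]
  have hc : ∀ E : Divisor k X.functionField, HasCls (oD k E) (clsMod (CurveRR.isInvertible_oD k E)) :=
    fun E => hasCls_clsMod _
  let g : Divisor k X.functionField →+ Additive (Pic X) := AddMonoidHom.mk'
    (fun E => Additive.ofMul (clsMod (CurveRR.isInvertible_oD k E))) fun E F => by
      rw [← ofMul_mul]
      exact congrArg Additive.ofMul ((hc (E + F)).eq ((hc E).tensor (hc F)) ⟨(CurveRR.tensorIso k E F).symm⟩)
  let G : Divisor k X.functionField → Pic X := fun E => Additive.toMul (g E)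
  have hGneg : ∀ E, G (-E) = (G E)⁻¹ := fun E => by simp only [G, map_neg, toMul_neg]
  have hpt : ∀ c : CP X, ∃ x : Spec (CommRingCat.of k) ⟶ X, x ≫ X ↘ Spec (CommRingCat.of k) = 𝟙 _ ∧
      HasCls (ClSub.idealMod x.ker) (G (Finsupp.single (place k c) 1))⁻¹ := fun c => by
    have hcl : IsClosed ({c.1} : Set X) := CurvePoints.isClosed_singleton RegCurve.dim.le c.2
    haveI : LocallyOfFiniteType (X ↘ Spec (CommRingCat.of k)) := inferInstance
    let x := pointOfClosedPoint (X ↘ Spec (CommRingCat.of k)) c.1 hcl
    refine ⟨x, pointOfClosedPoint_comp _ _ _, ?_⟩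
    have hk : x.ker = Scheme.IdealSheafData.vanishingIdeal ⟨{c.1}, hcl⟩ := by
      rw [SchImage.ker_eq_vanishingIdeal x]
      congr 1
      refine Closeds.ext ?_
      show closure (Set.range x) = {c.1}
      rw [show Set.range x = {c.1} from Set.eq_singleton_iff_unique_mem.2
        ⟨⟨closedPoint k, pointOfClosedPoint_apply _ _ _ _⟩, fun a ⟨b, hb⟩ => hb ▸ pointOfClosedPoint_apply _ _ _ b⟩,
        hcl.closure_eq]
    rw [hk, ← hGneg]
    obtain ⟨i⟩ := CurveRR.nonempty_idealMod_point_iso k c hcl
    exact ⟨ParaPair.isInvertible_of_iso i (CurveRR.isInvertible_oD k _), (Cube.clsMod_eq_iff _ (CurveRR.isInvertible_oD k _)).2 ⟨i⟩⟩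
  haveI : ConnectedSpace X := inferInstance
  have hdiv : ∀ a b : CP X, AlgCls k (G (Finsupp.single (place k a) 1) * (G (Finsupp.single (place k b) 1))⁻¹) := by
    intro a b
    obtain ⟨x, hx, hu⟩ := hpt a
    obtain ⟨y, hy, hv⟩ := hpt b
    have := (algCls_point_div k hdim x y hx hy hu hv).inv k
    rwa [inv_inv, mul_inv, inv_inv] at this
  rcases isEmpty_or_nonempty (CP X) with hE | ⟨⟨b⟩⟩
  · have : D = 0 := Finsupp.ext fun P => by obtain ⟨c, -⟩ := CurveRR.place_surjective (k := k) P; exact hE.elim c
    rw [(hasCls_clsMod hL).eq (hc 0) ⟨this ▸ e⟩]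
    have h0 : G 0 = 1 := by simp only [G, map_zero, toMul_zero]
    exact (show clsMod (CurveRR.isInvertible_oD k (0 : Divisor k X.functionField)) = 1 from h0) ▸ algCls_one k
  set B := G (Finsupp.single (place k b) 1)
  have hall : ∀ E : Divisor k X.functionField, AlgCls k (G E * (B ^ E.deg)⁻¹) := by
    intro E
    induction E using Finsupp.induction_linear with
    | zero => simpa [G, Finsupp.sum, _root_.FunFld.Divisor.deg] using algCls_one k (X := X)
    | add E F hE hF =>
      have := hE.mul k hF
      rw [mul_mul_mul_comm, ← mul_inv, ← zpow_add, ← FunFld.deg_add] at this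
      simpa only [G, map_add, toMul_add] using this
    | single P n =>
      obtain ⟨a, rfl⟩ := CurveRR.place_surjective (k := k) P
      have h1 : G (Finsupp.single (place k a) n) = G (Finsupp.single (place k a) 1) ^ n := by
        simp only [G]
        rw [← toMul_zsmul, ← map_zsmul, Finsupp.smul_single, zsmul_one, Int.cast_id]
      have h2 : _root_.FunFld.Divisor.deg (Finsupp.single (place k a) n) = n := by
        simp [_root_.FunFld.Divisor.deg, Finsupp.sum_single_index, CurveMult.deg_place_eq_one k]
      rw [h1, h2, ← inv_zpow, ← mul_zpow]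
      exact (hdiv a b).zpow k n
  have := hall D
  rw [hD, zpow_zero, inv_one, mul_one] at this
  rw [(hasCls_clsMod hL).eq (hc D) ⟨e⟩]
  exact this

end GrothLib.AlgEquiv26
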