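import Groth.Agent.Lib.Cube.Square
import Groth.Agent.Lib.Neutral.Connected
import Groth.Agent.Lib.HodgeIndex.Form
import Groth.Agent.Lib.NumReg26.Num
import Groth.Prelude.Def_Pic13
import Mathlib.AlgebraicGeometry.AlgClosed.Basic

/-!
# The classes algebraically equivalent to zero form a group
-/

set_option autoImplicit false
set_option linter.all false
set_option maxHeartbeats 800000
set_option backward.isDefEq.respectTransparency false

universe u

open CategoryTheory CategoryTheory.Limits AlgebraicGeometry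

noncomputable section

namespace GrothLib.AlgEquiv26

open GrothLib.Cube (Pic clsMod HasCls hasCls_clsMod hasCls_structureModule pull)
open GrothLib.HodgeIndex (rep)

variable (k : Type u) [Field k] {X : Scheme.{u}} [X.Over (Spec (CommRingCat.of k))]

/-- A class joined to the trivial one inside a connected family of classes. -/
def AlgCls (z : Pic X) : Prop :=
  ∃ (T : Scheme.{u}) (q : T ⟶ Spec (CommRingCat.of k)), ConnectedSpace T ∧ LocallyOfFiniteType q ∧ QuasiCompact q ∧
    ∃ (w : Pic (Pic13.prodK k X q)) (t t₀ : Spec (CommRingCat.of k) ⟶ T) (ht : t ≫ q = 𝟙 _) (ht₀ : t₀ ≫ q = 𝟙 _),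
      pull (Pic13.sliceAt k X q t ht) w = z ∧ pull (Pic13.sliceAt k X q t₀ ht₀) w = 1

theorem algCls_iff {L : X.Modules} {z : Pic X} (hL : HasCls L z) :
    AlgCls k z ↔ Pic13.IsAlgEquivZero k X L := by
  constructor
  · rintro ⟨T, q, hc, hft, hqc, w, t, t₀, ht, ht₀, h1, h2⟩
    have hM := NumReg26.hasCls_rep w
    refine ⟨T, q, hc, hft, hqc, rep w, hM.1, t, t₀, ht, ht₀, ?_, ?_⟩
    · exact ((hM.pullback _).iso hL h1)
    · exact ((hM.pullback _).iso (hasCls_structureModule X) h2)
  · rintro ⟨T, q, hc, hft, hqc, M, hM, t, t₀, ht, ht₀, e1, e2⟩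
    exact ⟨T, q, hc, hft, hqc, clsMod hM, t, t₀, ht, ht₀, ((hasCls_clsMod hM).pullback _).eq hL e1,
      ((hasCls_clsMod hM).pullback _).eq (hasCls_structureModule X) e2⟩

theorem pull_slice_fst {T : Scheme.{u}} (q : T ⟶ Spec (CommRingCat.of k)) (t : Spec (CommRingCat.of k) ⟶ T)
    (ht : t ≫ q = 𝟙 _) (z : Pic X) :
    pull (Pic13.sliceAt k X q t ht) (pull (pullback.fst (X ↘ Spec (CommRingCat.of k)) q) z) = z := by
  rw [Cube.pull_comp, show Pic13.sliceAt k X q t ht ≫ pullback.fst _ q = 𝟙 X from pullback.lift_fst _ _ _,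
    Cube.pull_id]

theorem algCls_one : AlgCls k (1 : Pic X) := by
  haveI : ConnectedSpace ↥(Spec (CommRingCat.of k)) := inferInstanceAs (ConnectedSpace (PrimeSpectrum k))
  exact ⟨_, 𝟙 _, inferInstance, inferInstance, inferInstance, 1, 𝟙 _, 𝟙 _, Category.id_comp _, Category.id_comp _,
    map_one _, map_one _⟩

theorem AlgCls.inv {z : Pic X} (h : AlgCls k z) : AlgCls k z⁻¹ := by
  obtain ⟨T, q, hc, hft, hqc, w, t, t₀, ht, ht₀, h1, h2⟩ := h
  refine ⟨T, q, hc, hft, hqc, w * pull (pullback.fst _ q) z⁻¹, t₀, t, ht₀, ht, ?_, ?_⟩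
  · rw [map_mul, h2, pull_slice_fst, one_mul]
  · rw [map_mul, h1, pull_slice_fst, mul_inv_cancel]

theorem AlgCls.mul {z z' : Pic X} (h : AlgCls k z) (h' : AlgCls k z') : AlgCls k (z * z') := by
  obtain ⟨T, q, hc, hft, hqc, w, t, t₀, ht, ht₀, h1, h2⟩ := h
  obtain ⟨T', q', hc', hft', hqc', w', t', t₀', ht', ht₀', h1', h2'⟩ := h'
  let T'' := pullback q q'
  let q'' : T'' ⟶ Spec (CommRingCat.of k) := pullback.fst q q' ≫ q
  haveI : ConnectedSpace T'' := Neutral.connectedSpace_pullback q q' t ht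
  haveI : LocallyOfFiniteType q'' := inferInstance
  haveI : QuasiCompact q'' := inferInstance
  let p := X ↘ Spec (CommRingCat.of k)
  let g : Pic13.prodK k X q'' ⟶ Pic13.prodK k X q :=
    pullback.lift (pullback.fst p q'') (pullback.snd p q'' ≫ pullback.fst q q')
      (by rw [Category.assoc]; exact pullback.condition)
  let g' : Pic13.prodK k X q'' ⟶ Pic13.prodK k X q' :=
    pullback.lift (pullback.fst p q'') (pullback.snd p q'' ≫ pullback.snd q q')
      (by rw [Category.assoc, ← pullback.condition]; exact pullback.condition)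
  let a := pullback.lift (f := q) (g := q') t t' (by rw [ht, ht'])
  let b := pullback.lift (f := q) (g := q') t₀ t₀' (by rw [ht₀, ht₀'])
  have ha : a ≫ q'' = 𝟙 _ := by rw [pullback.lift_fst_assoc, ht]
  have hb : b ≫ q'' = 𝟙 _ := by rw [pullback.lift_fst_assoc, ht₀]
  have hg : ∀ (c : Spec (CommRingCat.of k) ⟶ T'') (hc : c ≫ q'' = 𝟙 _) (s : Spec (CommRingCat.of k) ⟶ T)
      (hs : s ≫ q = 𝟙 _), c ≫ pullback.fst q q' = s →
      Pic13.sliceAt k X q'' c hc ≫ g = Pic13.sliceAt k X q s hs := fun c hc s hs hcs => by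
    refine pullback.hom_ext ?_ ?_
    · rw [Category.assoc, pullback.lift_fst]
      exact (pullback.lift_fst _ _ _).trans (pullback.lift_fst _ _ _).symm
    · rw [Category.assoc, pullback.lift_snd, ← Category.assoc,
        show Pic13.sliceAt k X q'' c hc ≫ pullback.snd p q'' = p ≫ c from pullback.lift_snd _ _ _,
        Category.assoc, hcs]
      exact (pullback.lift_snd _ _ _).symm
  have hg' : ∀ (c : Spec (CommRingCat.of k) ⟶ T'') (hc : c ≫ q'' = 𝟙 _) (s : Spec (CommRingCat.of k) ⟶ T')
      (hs : s ≫ q' = 𝟙 _), c ≫ pullback.snd q q' = s →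
      Pic13.sliceAt k X q'' c hc ≫ g' = Pic13.sliceAt k X q' s hs := fun c hc s hs hcs => by
    refine pullback.hom_ext ?_ ?_
    · rw [Category.assoc, pullback.lift_fst]
      exact (pullback.lift_fst _ _ _).trans (pullback.lift_fst _ _ _).symm
    · rw [Category.assoc, pullback.lift_snd, ← Category.assoc,
        show Pic13.sliceAt k X q'' c hc ≫ pullback.snd p q'' = p ≫ c from pullback.lift_snd _ _ _,
        Category.assoc, hcs]
      exact (pullback.lift_snd _ _ _).symm
  refine ⟨T'', q'', inferInstance, inferInstance, inferInstance, pull g w * pull g' w', a, b, ha, hb, ?_, ?_⟩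
  · rw [map_mul, Cube.pull_comp, Cube.pull_comp, hg a ha t ht (pullback.lift_fst _ _ _),
      hg' a ha t' ht' (pullback.lift_snd _ _ _), h1, h1']
  · rw [map_mul, Cube.pull_comp, Cube.pull_comp, hg b hb t₀ ht₀ (pullback.lift_fst _ _ _),
      hg' b hb t₀' ht₀' (pullback.lift_snd _ _ _), h2, h2', one_mul]

theorem AlgCls.zpow {z : Pic X} (h : AlgCls k z) : ∀ n : ℤ, AlgCls k (z ^ n) := fun n => by
  induction n using Int.induction_on with
  | zero => rw [zpow_zero]; exact algCls_one k
  | succ n ih => rw [zpow_add_one]; exact ih.mul k h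
  | pred n ih => rw [zpow_sub_one]; exact ih.mul k (h.inv k)

end GrothLib.AlgEquiv26
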